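import Mathlib.FieldTheory.IsAlgClosed.Basic
import Mathlib.FieldTheory.Separable
import Mathlib.FieldTheory.Finite.Basic
import Mathlib.LinearAlgebra.FiniteDimensional.Lemmas
import Mathlib.Algebra.CharP.Lemmas
import Mathlib.RingTheory.Artinian.Module

/-!
# `p`-linear endomorphisms of finite-dimensional vector spaces over an algebraically closed field
-/

universe u

namespace Groth.Agent.PLinFix

open Polynomial

variable (p : ℕ) [hp : Fact p.Prime] {k : Type u} [Field k] [IsAlgClosed k] [CharP k p]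
  {V : Type u} [AddCommGroup V] [Module k V] {F : V →+ V}
  (hF : ∀ (a : k) (v : V), F (a • v) = a ^ p • F v)

include hF in
theorem iterate_smul (m : ℕ) (a : k) (v : V) : (⇑F)^[m] (a • v) = a ^ p ^ m • (⇑F)^[m] v := by
  induction m generalizing a v with
  | zero => simp
  | succ m ih => rw [Function.iterate_succ_apply', Function.iterate_succ_apply', ih, hF, ← pow_mul, pow_succ]

omit [IsAlgClosed k] [CharP k p] in
theorem iterate_add (m : ℕ) (v w : V) : (⇑F)^[m] (v + w) = (⇑F)^[m] v + (⇑F)^[m] w :=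
  iterate_map_add F m v w

/-- The image of the `m`-th iterate. -/
noncomputable def img (m : ℕ) : Submodule k V where
  carrier := Set.range (⇑F)^[m]
  add_mem' := by rintro _ _ ⟨v, rfl⟩ ⟨w, rfl⟩; exact ⟨v + w, iterate_map_add F m v w⟩
  zero_mem' := ⟨0, iterate_map_zero F m⟩
  smul_mem' := by
    rintro a _ ⟨v, rfl⟩
    obtain ⟨b, hb⟩ := IsAlgClosed.exists_pow_nat_eq a (pow_pos hp.out.pos m)
    exact ⟨b • v, by rw [iterate_smul p hF, hb]⟩

/-- The generalised kernel. -/
def nil : Submodule k V where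
  carrier := {v | ∃ m : ℕ, (⇑F)^[m] v = 0}
  add_mem' := by
    rintro v w ⟨m, hv⟩ ⟨n, hw⟩
    refine ⟨m + n, ?_⟩
    rw [iterate_map_add]
    have h1 : (⇑F)^[m + n] v = 0 := by rw [add_comm, Function.iterate_add_apply, hv, iterate_map_zero]
    have h2 : (⇑F)^[m + n] w = 0 := by rw [Function.iterate_add_apply, hw, iterate_map_zero]
    rw [h1, h2, add_zero]
  zero_mem' := ⟨0, rfl⟩
  smul_mem' := by
    rintro a v ⟨m, hv⟩
    exact ⟨m, by rw [iterate_smul p hF, hv, smul_zero]⟩

variable [FiniteDimensional k V]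

include hF in
theorem exists_stable : ∃ m, ∀ n, m ≤ n → img p hF n = img p hF m := by
  have hanti : ∀ m n, m ≤ n → img p hF n ≤ img p hF m := by
    rintro m n h _ ⟨v, rfl⟩
    exact ⟨(⇑F)^[n - m] v, by rw [← Function.iterate_add_apply, Nat.add_sub_cancel' h]⟩
  obtain ⟨m, hm⟩ := IsArtinian.monotone_stabilizes (R := k) (M := V)
    ⟨fun n => OrderDual.toDual (img p hF n), fun a b h => hanti a b h⟩
  exact ⟨m, fun n hn => (congrArg OrderDual.ofDual (hm n hn)).symm⟩

include hF in
/-- The equation behind the existence of fixed vectors. -/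
theorem exists_nonzero_solution {r : ℕ} (a : ℕ → k) (ha : ∃ j ≤ r, a j ≠ 0) :
    ∃ x : ℕ → k, x r ≠ 0 ∧ x 0 = a 0 * x r ^ p ∧ ∀ j < r, x (j + 1) = x j ^ p + a (j + 1) * x r ^ p := by
  classical
  have hp2 : 2 ≤ p := hp.out.two_le
  let Q : ℕ → k[X] := fun j => Nat.rec (C (a 0) * X ^ p) (fun j q => q ^ p + C (a (j + 1)) * X ^ p) j
  have hdvd : ∀ j, X ^ 2 ∣ Q j := by
    intro j
    induction j with
    | zero => exact dvd_mul_of_dvd_right (pow_dvd_pow X hp2) _
    | succ j ih =>
      exact dvd_add (dvd_pow ih hp.out.ne_zero) (dvd_mul_of_dvd_right (pow_dvd_pow X hp2) _)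
  have hdeg : ∀ j, Q j = 0 ∨ p ≤ (Q j).natDegree := by
    intro j
    induction j with
    | zero =>
      rcases eq_or_ne (a 0) 0 with h | h
      · left; show C (a 0) * X ^ p = 0; rw [h, map_zero, zero_mul]
      · right; show p ≤ (C (a 0) * X ^ p).natDegree; rw [natDegree_C_mul_X_pow p _ h]
    | succ j ih =>
      rcases ih with h | h
      · rcases eq_or_ne (a (j + 1)) 0 with h' | h'
        · left; show Q j ^ p + C (a (j + 1)) * X ^ p = 0
          rw [h, h', zero_pow hp.out.ne_zero, map_zero, zero_mul, add_zero]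
        · right; show p ≤ (Q j ^ p + C (a (j + 1)) * X ^ p).natDegree
          rw [h, zero_pow hp.out.ne_zero, zero_add, natDegree_C_mul_X_pow p _ h']
      · right; show p ≤ (Q j ^ p + C (a (j + 1)) * X ^ p).natDegree
        have h1 : p < (Q j ^ p).natDegree := by
          rw [natDegree_pow]
          calc p < p * p := lt_mul_self (by omega)
            _ ≤ p * (Q j).natDegree := Nat.mul_le_mul le_rfl h
        rw [natDegree_add_eq_left_of_natDegree_lt (lt_of_le_of_lt (natDegree_C_mul_X_pow_le _ _) h1)]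
        exact h1.le
  have hne : ∀ j, (∃ i ≤ j, a i ≠ 0) → Q j ≠ 0 := by
    intro j
    induction j with
    | zero =>
      rintro ⟨i, hi, hai⟩
      obtain rfl : i = 0 := Nat.le_zero.mp hi
      show C (a 0) * X ^ p ≠ 0
      simp [hai]
    | succ j ih =>
      rintro ⟨i, hi, hai⟩
      show Q j ^ p + C (a (j + 1)) * X ^ p ≠ 0
      rcases eq_or_ne (Q j) 0 with h | h
      · rw [h, zero_pow hp.out.ne_zero, zero_add]
        rcases Nat.eq_or_lt_of_le hi with rfl | hlt
        · simp [hai]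
        · exact absurd h (ih ⟨i, Nat.lt_succ_iff.mp hlt, hai⟩)
      · intro h0
        have h1 : p < (Q j ^ p).natDegree := by
          rw [natDegree_pow]
          calc p < p * p := lt_mul_self (by omega)
            _ ≤ p * (Q j).natDegree := Nat.mul_le_mul le_rfl ((hdeg j).resolve_left h)
        rw [eq_neg_of_add_eq_zero_left h0, natDegree_neg] at h1
        exact absurd (natDegree_C_mul_X_pow_le (a (j + 1)) p) (not_le.mpr h1)
  obtain ⟨Q', hQ'⟩ : X ∣ Q r := (dvd_pow_self X two_ne_zero).trans (hdvd r)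
  have hQr := hne r ha
  have hQ'0 : Q' ≠ 0 := fun h => hQr (by rw [hQ', h, mul_zero])
  have hdeg' : 1 ≤ Q'.natDegree := by
    have := (hdeg r).resolve_left hQr
    rw [hQ', natDegree_mul X_ne_zero hQ'0, natDegree_X] at this
    omega
  have hcoeff : Q'.eval 0 = 0 := by
    obtain ⟨T, hT⟩ := hdvd r
    have : Q' = X * T := mul_left_cancel₀ (X_ne_zero) (by rw [← hQ', hT, pow_two, mul_assoc])
    simp [this]
  obtain ⟨z, hz⟩ := IsAlgClosed.exists_root (Q' - 1) (by
    rw [degree_eq_natDegree (fun h => by rw [sub_eq_zero] at h; rw [h, natDegree_one] at hdeg'; omega),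
      Ne, Nat.cast_eq_zero, show (1 : k[X]) = C 1 by rw [map_one], natDegree_sub_C]
    omega)
  have hz0 : z ≠ 0 := by
    rintro rfl
    simp [hcoeff] at hz
  refine ⟨fun j => (Q j).eval z, ?_, ?_, fun j _ => ?_⟩
  all_goals
    have hzr : (Q r).eval z = z := by
      rw [hQ', eval_mul, eval_X]
      have : Q'.eval z = 1 := by simpa [sub_eq_zero] using hz
      rw [this, mul_one]
    simp only [hzr]
  · exact hz0
  · show (C (a 0) * X ^ p).eval z = _; simp
  · show (Q j ^ p + C (a (j + 1)) * X ^ p).eval z = _; simp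

include hF in
theorem bijOn_stable {m₀ : ℕ} (hm₀ : ∀ n, m₀ ≤ n → img p hF n = img p hF m₀) :
    ∀ w ∈ img p hF m₀, F w = 0 → w = 0 := by
  set W := img p hF m₀
  let b := Module.finBasis k W
  have hsur : ∀ w : W, ∃ u : W, F u = w := by
    rintro ⟨w, hw⟩
    rw [← hm₀ (m₀ + 1) (Nat.le_succ m₀)] at hw
    obtain ⟨v, rfl⟩ := hw
    exact ⟨⟨(⇑F)^[m₀] v, v, rfl⟩, (Function.iterate_succ_apply' F m₀ v).symm⟩
  choose u hu using fun i => hsur (b i)
  have hli : LinearIndependent k u := by
    rw [Fintype.linearIndependent_iff]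
    intro c hc i
    have h := congrArg (fun x : W => F x) hc
    simp only [Submodule.coe_sum, Submodule.coe_smul, map_sum, hF, hu, Submodule.coe_zero, map_zero] at h
    have h2 : ∑ j, c j ^ p • b j = 0 := Subtype.ext (by simpa using h)
    exact pow_eq_zero_iff hp.out.ne_zero |>.mp (Fintype.linearIndependent_iff.mp b.linearIndependent _ h2 i)
  rintro w hw h0
  let bu := basisOfLinearIndependentOfCardEqFinrank' u hli (Fintype.card_fin _)
  have hx : (⟨w, hw⟩ : W) = ∑ i, bu.repr ⟨w, hw⟩ i • u i := by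
    conv_lhs => rw [← bu.sum_repr ⟨w, hw⟩]
    simp [bu]
  have h := congrArg (fun x : W => F x) hx
  simp only [Submodule.coe_sum, Submodule.coe_smul, map_sum, hF, hu, h0] at h
  have h2 : ∑ j, (bu.repr ⟨w, hw⟩ j) ^ p • b j = 0 := Subtype.ext (by simpa using h.symm)
  have h3 : ∀ i, bu.repr ⟨w, hw⟩ i = 0 := fun i =>
    pow_eq_zero_iff hp.out.ne_zero |>.mp (Fintype.linearIndependent_iff.mp b.linearIndependent _ h2 i)
  simp only [h3, zero_smul, Finset.sum_const_zero] at hx
  exact congrArg Subtype.val hx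

include hF in
theorem iterate_eq_zero {m₀ : ℕ} (hm₀ : ∀ n, m₀ ≤ n → img p hF n = img p hF m₀) :
    ∀ (m : ℕ) (w : V), w ∈ img p hF m₀ → (⇑F)^[m] w = 0 → w = 0 := by
  intro m
  induction m with
  | zero => intro w _ h; simpa using h
  | succ m ih =>
    intro w hw h
    rw [Function.iterate_succ_apply] at h
    refine bijOn_stable p hF hm₀ w hw (ih (F w) ?_ h)
    obtain ⟨v, rfl⟩ := hw
    exact ⟨F v, by rw [← Function.iterate_succ_apply, Function.iterate_succ_apply']⟩

include hF in
theorem isCompl_stable {m₀ : ℕ} (hm₀ : ∀ n, m₀ ≤ n → img p hF n = img p hF m₀) :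
    IsCompl (img p hF m₀) (nil p hF) := by
  constructor
  · rw [Submodule.disjoint_def]
    rintro w hw ⟨m, hm⟩
    exact iterate_eq_zero p hF hm₀ m w hw hm
  · rw [codisjoint_iff, eq_top_iff]
    intro v _
    have h : (⇑F)^[m₀] v ∈ img p hF (m₀ + m₀) := by rw [hm₀ _ (Nat.le_add_left m₀ m₀)]; exact ⟨v, rfl⟩
    obtain ⟨y, hy⟩ := h
    rw [Function.iterate_add_apply] at hy
    refine Submodule.mem_sup.mpr ⟨(⇑F)^[m₀] y, ⟨y, rfl⟩, v - (⇑F)^[m₀] y, ⟨m₀, ?_⟩, add_sub_cancel _ _⟩
    rw [iterate_map_sub, hy, sub_self]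

include hF in
theorem span_fixed_eq {m₀ : ℕ} (hm₀ : ∀ n, m₀ ≤ n → img p hF n = img p hF m₀) :
    Submodule.span k {v : V | F v = v} = img p hF m₀ := by
  classical
  set U := Submodule.span k {v : V | F v = v}
  set W := img p hF m₀
  have hUW : U ≤ W := Submodule.span_le.mpr fun v hv => ⟨v, (Function.iterate_fixed hv m₀)⟩
  have hFU : ∀ u ∈ U, F u ∈ U := by
    intro u hu
    induction hu using Submodule.span_induction with
    | mem x hx => rw [show F x = x from hx]; exact Submodule.subset_span hx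
    | zero => simp
    | add x y _ _ hx hy => rw [map_add]; exact add_mem hx hy
    | smul a x _ hx => rw [hF]; exact Submodule.smul_mem _ _ hx
  have hFUsurj : ∀ u ∈ U, ∃ y ∈ U, F y = u := by
    intro u hu
    induction hu using Submodule.span_induction with
    | mem x hx => exact ⟨x, Submodule.subset_span hx, hx⟩
    | zero => exact ⟨0, zero_mem _, map_zero F⟩
    | add x y _ _ hx hy =>
      obtain ⟨x', hx', rfl⟩ := hx; obtain ⟨y', hy', rfl⟩ := hy
      exact ⟨x' + y', add_mem hx' hy', map_add F _ _⟩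
    | smul a x _ hx =>
      obtain ⟨x', hx', rfl⟩ := hx
      obtain ⟨c, hc⟩ := IsAlgClosed.exists_pow_nat_eq a hp.out.pos
      exact ⟨c • x', Submodule.smul_mem _ _ hx', by rw [hF, hc]⟩
  have hAS : ∀ u ∈ U, ∃ x ∈ U, F x - x = u := by
    intro u hu
    induction hu using Submodule.span_induction with
    | mem x hx =>
      obtain ⟨t, ht⟩ := IsAlgClosed.exists_root (X ^ p - X - 1 : k[X]) (by
        have h : (X ^ p - X - 1 : k[X]).natDegree = p := by
          rw [show (X ^ p - X - 1 : k[X]) = X ^ p - (X + C 1) by rw [map_one]; ring,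
            natDegree_sub_eq_left_of_natDegree_lt] <;> simp only [natDegree_X_add_C, natDegree_X_pow, hp.out.one_lt]
        rw [degree_eq_natDegree (fun h' => by rw [h', natDegree_zero] at h; exact hp.out.ne_zero h.symm), h]
        exact_mod_cast hp.out.ne_zero)
      refine ⟨t • x, Submodule.smul_mem _ _ (Submodule.subset_span hx), ?_⟩
      rw [hF, show F x = x from hx, ← sub_smul]
      have : t ^ p - t = 1 := by simpa [sub_eq_zero] using ht
      rw [this, one_smul]
    | zero => exact ⟨0, zero_mem _, by simp⟩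
    | add x y _ _ hx hy =>
      obtain ⟨x', hx', hx''⟩ := hx; obtain ⟨y', hy', hy''⟩ := hy
      exact ⟨x' + y', add_mem hx' hy', by rw [map_add, ← hx'', ← hy'']; abel⟩
    | smul a x hxm _ =>
      obtain ⟨T, hT, hTs⟩ : ∃ T : Finset V, (↑T ⊆ {v : V | F v = v}) ∧ a • x ∈ Submodule.span k (T : Set V) :=
        Submodule.mem_span_finite_of_mem_span (Submodule.smul_mem _ a hxm)
      obtain ⟨c, -, hc⟩ := Submodule.mem_span_finset.mp hTs
      choose t ht using fun v : V => IsAlgClosed.exists_root (X ^ p - X - C (c v) : k[X]) (by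
        have h : (X ^ p - X - C (c v) : k[X]).natDegree = p := by
          rw [show (X ^ p - X - C (c v) : k[X]) = X ^ p - (X + C (c v)) by ring,
            natDegree_sub_eq_left_of_natDegree_lt] <;> simp only [natDegree_X_add_C, natDegree_X_pow, hp.out.one_lt]
        rw [degree_eq_natDegree (fun h' => by rw [h', natDegree_zero] at h; exact hp.out.ne_zero h.symm), h]
        exact_mod_cast hp.out.ne_zero)
      refine ⟨∑ v ∈ T, t v • v, Submodule.sum_mem _ fun v hv =>
        Submodule.smul_mem _ _ (Submodule.subset_span (hT hv)), ?_⟩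
      rw [← hc, map_sum, ← Finset.sum_sub_distrib]
      refine Finset.sum_congr rfl fun v hv => ?_
      rw [hF, show F v = v from hT hv, ← sub_smul]
      congr 1
      simpa [sub_eq_zero] using ht v
  by_contra hne
  obtain ⟨v, hvW, hvU⟩ := SetLike.exists_of_lt (lt_of_le_of_ne hUW hne)
  have hiter : ∀ i, (⇑F)^[i] v ∈ W := fun i => by
    obtain ⟨y, rfl⟩ := hvW
    exact ⟨(⇑F)^[i] y, by rw [← Function.iterate_add_apply, ← Function.iterate_add_apply, add_comm]⟩
  let S : ℕ → Submodule k V := fun r => U ⊔ Submodule.span k ((fun i => (⇑F)^[i] v) '' Set.Iio r)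
  have hex : ∃ r, (⇑F)^[r] v ∈ S r := by
    obtain ⟨r, hr⟩ := monotone_stabilizes_iff_noetherian.mpr (inferInstance : IsNoetherian k V)
      ⟨S, fun a b h => sup_le_sup_left (Submodule.span_mono (Set.image_mono (Set.Iio_subset_Iio h))) _⟩
    refine ⟨r, ?_⟩
    have : (⇑F)^[r] v ∈ S (r + 1) := Submodule.mem_sup_right (Submodule.subset_span ⟨r, Nat.lt_succ_self r, rfl⟩)
    rwa [show S (r + 1) = S r from (hr (r + 1) (Nat.le_succ r)).symm] at this
  have hspec := Nat.find_spec hex
  have hmin : ∀ r, r < Nat.find hex → (⇑F)^[r] v ∉ S r := fun r hr => Nat.find_min hex hr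
  obtain ⟨r, hr⟩ : ∃ r, Nat.find hex = r + 1 := by
    refine ⟨Nat.find hex - 1, (Nat.succ_pred_eq_of_pos ?_).symm⟩
    rw [Nat.find_pos]
    simpa [S] using hvU
  rw [hr] at hspec hmin
  obtain ⟨u, huU, s, hs, hus⟩ := Submodule.mem_sup.mp hspec
  rw [show (fun i => (⇑F)^[i] v) '' Set.Iio (r + 1) = Set.range (fun i : Fin (r + 1) => (⇑F)^[(i : ℕ)] v) by
    ext; simp [Fin.exists_iff]] at hs
  obtain ⟨a', ha'⟩ := (Submodule.mem_span_range_iff_exists_fun k).mp hs
  let a : ℕ → k := fun i => if h : i < r + 1 then a' ⟨i, h⟩ else 0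
  have hrel : (⇑F)^[r + 1] v = u + ∑ i ∈ Finset.range (r + 1), a i • (⇑F)^[i] v := by
    rw [← hus, ← ha', ← Fin.sum_univ_eq_sum_range (fun i => a i • (⇑F)^[i] v)]
    simp [a, Fin.is_le]
  have ha : ∃ j ≤ r, a j ≠ 0 := by
    by_contra! h
    have h1 : (⇑F)^[r + 1] v = u := by
      rw [hrel, Finset.sum_eq_zero fun i hi => by rw [h i (Nat.lt_succ_iff.mp (Finset.mem_range.mp hi)), zero_smul],
        add_zero]
    have h2 : ∀ n, ∀ u ∈ U, ∃ y ∈ U, (⇑F)^[n] y = u := by
      intro n
      induction n with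
      | zero => exact fun u hu => ⟨u, hu, rfl⟩
      | succ n ih =>
        intro u hu
        obtain ⟨y, hy, rfl⟩ := hFUsurj u hu
        obtain ⟨z, hz, rfl⟩ := ih y hy
        exact ⟨z, hz, Function.iterate_succ_apply' F n z⟩
    obtain ⟨y, hy, hy'⟩ := h2 (r + 1) u huU
    have h3 : v - y = 0 := iterate_eq_zero p hF hm₀ (r + 1) _ (sub_mem hvW (hUW hy))
      (by rw [iterate_map_sub, h1, hy', sub_self])
    exact hvU (sub_eq_zero.mp h3 ▸ hy)
  obtain ⟨x, hxr, hx0, hxs⟩ := exists_nonzero_solution p hF a ha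
  let w := ∑ i ∈ Finset.range (r + 1), x i • (⇑F)^[i] v
  have hwU : w ∉ U := by
    intro hw
    have h1 : x r • (⇑F)^[r] v ∈ S r := by
      have h2 : x r • (⇑F)^[r] v = w - ∑ i ∈ Finset.range r, x i • (⇑F)^[i] v := by
        simp [w, Finset.sum_range_succ]
      rw [h2]
      refine sub_mem (Submodule.mem_sup_left hw) (Submodule.mem_sup_right (Submodule.sum_mem _ fun i hi => ?_))
      exact Submodule.smul_mem _ _ (Submodule.subset_span ⟨i, Finset.mem_range.mp hi, rfl⟩)
    exact hmin r (Nat.lt_succ_self r) ((Submodule.smul_mem_iff _ hxr).mp h1)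
  have hFw : F w - w = x r ^ p • u := by
    have h1 : F w = ∑ i ∈ Finset.range r, x i ^ p • (⇑F)^[i + 1] v + x r ^ p • (⇑F)^[r + 1] v := by
      simp only [w, Finset.sum_range_succ, map_add, map_sum, hF, ← Function.iterate_succ_apply']
    rw [h1, hrel, smul_add, Finset.smul_sum, Finset.sum_range_succ' (fun i => x r ^ p • a i • (⇑F)^[i] v)]
    simp only [w, Finset.sum_range_succ' (fun i => x i • (⇑F)^[i] v), smul_smul, hx0]
    have h4 : ∑ i ∈ Finset.range r, x (i + 1) • (⇑F)^[i + 1] v =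
        ∑ i ∈ Finset.range r, x i ^ p • (⇑F)^[i + 1] v + ∑ i ∈ Finset.range r, (x r ^ p * a (i + 1)) • (⇑F)^[i + 1] v := by
      rw [← Finset.sum_add_distrib]
      refine Finset.sum_congr rfl fun i hi => ?_
      rw [hxs i (Finset.mem_range.mp hi), add_smul, mul_comm (a (i + 1))]
    rw [h4, mul_comm (a 0)]
    abel
  obtain ⟨y, hy, hy'⟩ := hAS _ (Submodule.smul_mem _ (x r ^ p) huU)
  refine hwU ?_
  have : w - y ∈ U := Submodule.subset_span (show F (w - y) = w - y by
    have h := hFw.trans hy'.symm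
    rw [map_sub, sub_eq_sub_iff_sub_eq_sub, h])
  simpa using add_mem this hy

omit [FiniteDimensional k V] in
include hF in
theorem linearIndependent_fixed : ∀ (s : Finset V), (∀ v ∈ s, F v = v) →
    (∀ c : V → ℤ, ∑ v ∈ s, c v • v = 0 → ∀ v ∈ s, (p : ℤ) ∣ c v) →
    ∀ g : V → k, ∑ v ∈ s, g v • v = 0 → ∀ v ∈ s, g v = 0 := by
  classical
  intro s
  induction s using Finset.strongInduction with
  | H s ih =>
    intro hfix hZ g hg v hv
    by_contra h0
    let g' : V → k := fun x => g x * (g v)⁻¹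
    have hg' : ∑ x ∈ s, g' x • x = 0 := by
      have h : ∑ x ∈ s, g' x • x = (g v)⁻¹ • ∑ x ∈ s, g x • x := by
        rw [Finset.smul_sum]
        exact Finset.sum_congr rfl fun x _ => by simp [g', smul_smul, mul_comm]
      rw [h, hg, smul_zero]
    have hgv : g' v = 1 := mul_inv_cancel₀ h0
    have hgp : ∑ x ∈ s, g' x ^ p • x = 0 := by
      have h := congrArg F hg'
      rw [map_zero, map_sum] at h
      rw [← h]
      exact Finset.sum_congr rfl fun x hx => by rw [hF, hfix x hx]
    have hd : ∑ x ∈ s.erase v, (g' x ^ p - g' x) • x = 0 := by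
      rw [Finset.sum_erase _ (by simp [hgv])]
      simp only [sub_smul, Finset.sum_sub_distrib, hgp, hg', sub_zero]
    have hZ' : ∀ c : V → ℤ, ∑ x ∈ s.erase v, c x • x = 0 → ∀ x ∈ s.erase v, (p : ℤ) ∣ c x := by
      intro c hc x hx
      have h := hZ (fun y => if y = v then 0 else c y) (by
        rw [← Finset.add_sum_erase s _ hv]
        simp only [↓reduceIte, zero_smul, zero_add]
        rw [← hc]
        exact Finset.sum_congr rfl fun y hy => by rw [if_neg (Finset.ne_of_mem_erase hy)]) x (Finset.mem_of_mem_erase hx)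
      simpa [Finset.ne_of_mem_erase hx] using h
    have hprime : ∀ x ∈ s, ∃ n : ℤ, (n : k) = g' x := by
      intro x hx
      rcases eq_or_ne x v with rfl | hne
      · exact ⟨1, by simp [hgv]⟩
      have h := ih _ (Finset.erase_ssubset hv) (fun y hy => hfix y (Finset.mem_of_mem_erase hy)) hZ'
        _ hd x (Finset.mem_erase.mpr ⟨hne, hx⟩)
      have hm := (Subfield.mem_bot_iff_pow_eq_self k p).mpr (sub_eq_zero.mp h)
      rw [← ZMod.fieldRange_castHom_eq_bot p] at hm
      obtain ⟨z, hz⟩ := hm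
      obtain ⟨n, rfl⟩ := ZMod.intCast_surjective z
      exact ⟨n, by rw [← hz, map_intCast]⟩
    choose n hn using hprime
    let c : V → ℤ := fun x => if h : x ∈ s then n x h else 0
    have hc : ∀ x ∈ s, (c x : k) = g' x := fun x hx => by simp only [c, dif_pos hx, hn x hx]
    have := hZ c (by
      rw [← hg']
      exact Finset.sum_congr rfl fun x hx => by rw [← Int.cast_smul_eq_zsmul k, hc x hx]) v hv
    have h1 : (c v : k) = 0 := (CharP.intCast_eq_zero_iff k p _).mpr this
    rw [hc v hv, hgv] at h1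
    exact one_ne_zero h1

end Groth.Agent.PLinFix
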